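import Groth.Agent.Lib.Grass.Glue
import Mathlib.LinearAlgebra.Matrix.SchurComplement
import Mathlib

/-!
Points of the Grassmannian of a cokernel and the minors of the presentation.
-/

set_option autoImplicit false
set_option linter.style.haveILetI false
set_option backward.isDefEq.respectTransparency.types true
set_option maxHeartbeats 1000000
universe u

open TensorProduct Module CategoryTheory AlgebraicGeometry Matrix
open Groth.Agent.GrassLib

noncomputable section

namespace Groth.Agent.DegLocus2

variable {R : Type u} [CommRing R]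

/-- Two Grassmannian points over a trivial ring. -/
theorem existsUnique_trivial {M : Type u} [AddCommGroup M] [Module R M] (k : ℕ) (C : Type u) [CommRing C]
    [Algebra R C] [Subsingleton C] : ∃! _N : Pt R M k C, True := by
  refine ⟨ofEll (fun _ => 0) 0 (fun i => Subsingleton.elim _ _), trivial, fun N _ => Module.Grassmannian.ext ?_⟩
  haveI := Module.subsingleton C (C ⊗[R] M)
  exact Subsingleton.elim _ _

theorem minor_identity {C : Type*} [CommRing C] {p q r : ℕ} (A : Matrix (Fin q) (Fin p) C) (e : Fin r → Fin q)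
    (f : Fin r → Fin p) (hnzd : (A.submatrix e f).det ∈ nonZeroDivisors C)
    (hz : ∀ (e' : Fin (r + 1) → Fin q) (f' : Fin (r + 1) → Fin p), (A.submatrix e' f').det = 0)
    (l : Fin q) (j : Fin p) :
    (A.submatrix e f).det * A l j =
      ∑ a, (A.submatrix (Function.update e a l) f).det * A (e a) j := by
  classical
  let D := A.submatrix e f
  let v : Fin r → C := fun b => A l (f b)
  let w : Fin r → C := fun a => A (e a) j
  let t := D.det
  let U : Matrix (Fin r) (Fin 1) C := Matrix.of fun a _ => w a
  let V : Matrix (Fin 1) (Fin r) C := Matrix.of fun _ b => v b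
  let S : Matrix (Fin 1) (Fin 1) C := Matrix.of fun _ _ => A l j
  have h0 : (Matrix.fromBlocks D U V S).det = 0 := by
    rw [← Matrix.det_submatrix_equiv_self finSumFinEquiv.symm]
    convert hz (fun i => Sum.elim e (fun _ => l) (finSumFinEquiv.symm i))
      (fun i => Sum.elim f (fun _ => j) (finSumFinEquiv.symm i)) using 2
    ext a b
    simp only [Matrix.submatrix_apply]
    rcases finSumFinEquiv.symm a with a | a <;> rcases finSumFinEquiv.symm b with b | b <;> rfl
  have h1 : Matrix.fromBlocks D U V S * Matrix.fromBlocks 1 (-(D.adjugate * U)) 0 (t • 1) =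
      Matrix.fromBlocks D 0 V (t • S - V * (D.adjugate * U)) := by
    rw [Matrix.fromBlocks_multiply]
    congr 1 <;> simp only [Matrix.mul_one, Matrix.mul_zero, add_zero, Matrix.mul_neg, Matrix.mul_smul]
    · rw [← Matrix.mul_assoc, Matrix.mul_adjugate, Matrix.smul_mul, Matrix.one_mul]
      simp [t]
    · abel
  have h2 := congrArg Matrix.det h1
  rw [Matrix.det_mul, h0, zero_mul, Matrix.det_fromBlocks_zero₁₂, Matrix.det_fin_one] at h2
  have h3 : (t • S - V * (D.adjugate * U)) 0 0 = 0 :=
    (mul_left_mem_nonZeroDivisors_eq_zero_iff hnzd).1 h2.symm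
  have h4 : t * A l j = (v ᵥ* D.adjugate) ⬝ᵥ w := by
    rw [← sub_eq_zero, ← h3, Matrix.sub_apply, Matrix.smul_apply]
    simp only [S, Matrix.of_apply, smul_eq_mul, ← Matrix.mul_assoc]
    rfl
  show t * A l j = _
  rw [h4]
  refine Finset.sum_congr rfl fun a _ => ?_
  congr 1
  rw [← Matrix.mulVec_transpose, Matrix.adjugate_transpose, ← Matrix.cramer_eq_adjugate_mulVec,
    Matrix.cramer_transpose_apply]
  congr 1
  ext a' b
  by_cases h : a' = a
  · subst h; simp [D, v]
  · simp [D, h]

section Coker

variable {M : Type u} [AddCommGroup M] [Module R M] {p q : ℕ} (A0 : Matrix (Fin q) (Fin p) R)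
  (π : (Fin q → R) →ₗ[R] M) (hπ : Function.Surjective π)
  (hker : LinearMap.ker π = LinearMap.range A0.mulVecLin)
  {C : Type u} [CommRing C] [Algebra R C]

include hπ in
theorem mem_of_gens (N : Submodule C (C ⊗[R] M)) (Φ : C ⊗[R] M →ₗ[C] C ⊗[R] M)
    (h : ∀ l, Φ ((1 : C) ⊗ₜ[R] π (Pi.single l 1)) ∈ N) (v : C ⊗[R] M) : Φ v ∈ N := by
  induction v using TensorProduct.induction_on with
  | zero => simp
  | add a b ha hb => rw [map_add]; exact add_mem ha hb
  | tmul c x =>
    obtain ⟨w, rfl⟩ := hπ x
    rw [pi_eq_sum_univ' w, map_sum, TensorProduct.tmul_sum, map_sum]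
    refine sum_mem fun l _ => ?_
    rw [map_smul, TensorProduct.tmul_smul, LinearMap.map_smul_of_tower,
      show c ⊗ₜ[R] π (Pi.single l 1) = c • ((1 : C) ⊗ₜ[R] π (Pi.single l 1)) by
        rw [TensorProduct.smul_tmul', smul_eq_mul, mul_one], map_smul]
    exact N.smul_of_tower_mem _ (N.smul_mem c (h l))

include hker in
theorem sum_col (j : Fin p) : ∑ l, A0 l j • π (Pi.single l 1) = 0 := by
  have : π (A0.mulVecLin (Pi.single j 1)) = 0 := by
    rw [← LinearMap.mem_ker, hker]; exact LinearMap.mem_range_self _ _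
  rw [pi_eq_sum_univ' (A0.mulVecLin (Pi.single j 1)), map_sum] at this
  simpa [Matrix.mulVec_single] using this

include hπ hker in
/-- Where an `r`-minor is regular and divides the others, and the larger minors vanish, the point is unique. -/
theorem existsUnique_pt {r k : ℕ} (hkr : r + k = q) (e : Fin r → Fin q) (f : Fin r → Fin p)
    (hnzd : ((A0.map (algebraMap R C)).submatrix e f).det ∈ nonZeroDivisors C)
    (hdvd : ∀ (e' : Fin r → Fin q) (f' : Fin r → Fin p),
      ((A0.map (algebraMap R C)).submatrix e f).det ∣ ((A0.map (algebraMap R C)).submatrix e' f').det)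
    (hz : ∀ (e' : Fin (r + 1) → Fin q) (f' : Fin (r + 1) → Fin p),
      ((A0.map (algebraMap R C)).submatrix e' f').det = 0) :
    ∃! _N : Pt R M k C, True := by
  classical
  rcases subsingleton_or_nontrivial C with hC | hC
  · exact existsUnique_trivial k C
  let A := A0.map (algebraMap R C)
  have he : Function.Injective e := by
    intro a b hab
    by_contra hne
    exact zero_notMem_nonZeroDivisors
      (Matrix.det_zero_of_row_eq hne (show A.submatrix e f a = A.submatrix e f b from funext fun c => by simp [hab]) ▸ hnzd)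
  have hcard : Fintype.card {l : Fin q // l ∉ Set.range e} = k := by
    rw [Fintype.card_subtype_compl, Fintype.card_fin,
      show Fintype.card {l : Fin q // l ∈ Set.range e} = r from
        (Set.card_range_of_injective he).trans (Fintype.card_fin r)]
    omega
  let c : Fin k ≃ {l : Fin q // l ∉ Set.range e} := (Fintype.equivFinOfCardEq hcard).symm
  choose u hu using fun (l : Fin q) (a : Fin r) => hdvd (Function.update e a l) f
  have hrow : ∀ l j, A l j = ∑ a, u l a * A (e a) j := fun l j => by
    refine (mul_cancel_left_mem_nonZeroDivisors hnzd).1 ?_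
    rw [minor_identity A e f hnzd hz l j, Finset.mul_sum]
    exact Finset.sum_congr rfl fun a _ => by rw [hu l a]; ring
  let ℓ0 : (Fin q → R) →ₗ[R] (Fin k → C) :=
    { toFun := fun w i => algebraMap R C (w (c i).1) - ∑ a, u (c i).1 a * algebraMap R C (w (e a))
      map_add' := fun w w' => by
        funext i; simp only [Pi.add_apply, map_add, mul_add, Finset.sum_add_distrib]; ring
      map_smul' := fun z w => by
        funext i
        simp only [Pi.smul_apply, smul_eq_mul, map_mul, RingHom.id_apply, Algebra.smul_def, mul_sub,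
          Finset.mul_sum]
        congr 1
        exact Finset.sum_congr rfl fun a _ => by ring }
  have hle : LinearMap.ker π ≤ LinearMap.ker ℓ0 := by
    rw [hker]
    rintro _ ⟨z, rfl⟩
    rw [LinearMap.mem_ker, pi_eq_sum_univ' z, map_sum, map_sum]
    refine Finset.sum_eq_zero fun j _ => ?_
    rw [map_smul, map_smul, show ℓ0 (A0.mulVecLin (Pi.single j 1)) = 0 from funext fun i => ?_, smul_zero]
    show algebraMap R C _ - ∑ a, _ = (0 : C)
    simp only [Matrix.mulVecLin_apply, Matrix.mulVec_single, MulOpposite.op_one, one_smul, Matrix.col_apply]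
    exact sub_eq_zero.2 (hrow (c i).1 j)
  let ℓ : M →ₗ[R] (Fin k → C) :=
    (Submodule.liftQ _ ℓ0 hle) ∘ₗ (π.quotKerEquivOfSurjective hπ).symm.toLinearMap
  have hℓ : ∀ w, ℓ (π w) = ℓ0 w := fun w => by
    show Submodule.liftQ _ ℓ0 hle ((π.quotKerEquivOfSurjective hπ).symm (π w)) = _
    rw [show (π.quotKerEquivOfSurjective hπ).symm (π w) = Submodule.Quotient.mk w from
      (LinearEquiv.symm_apply_eq _).2 rfl]
    rfl
  let x : Fin k → M := fun i => π (Pi.single (c i).1 1)
  have hne : ∀ i a, e a ≠ (c i).1 := fun i a h => (c i).2 ⟨a, h⟩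
  have hx : ∀ i, ℓ (x i) = Pi.single i 1 := fun i => by
    rw [hℓ]
    funext i'
    show algebraMap R C _ - ∑ a, _ = _
    rw [Finset.sum_eq_zero fun a _ => by rw [Pi.single_eq_of_ne (hne i a), map_zero, mul_zero], sub_zero]
    by_cases h : i' = i
    · subst h; simp
    · rw [Pi.single_eq_of_ne h, Pi.single_eq_of_ne (fun h' => h (c.injective (Subtype.ext h'))), map_zero]
  refine ⟨ofEll x ℓ hx, trivial, fun N _ => ?_⟩
  let E : Fin q → (C ⊗[R] M) ⧸ N.toSubmodule := fun l => N.toSubmodule.mkQ ((1 : C) ⊗ₜ[R] π (Pi.single l 1))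
  let Z : Fin r → (C ⊗[R] M) ⧸ N.toSubmodule := fun a => E (e a) + ∑ i, u (c i).1 a • E (c i).1
  let σ : Fin r ⊕ Fin k ≃ Fin q :=
    (Equiv.sumCongr (Equiv.ofInjective e he) c).trans (Equiv.sumCompl fun l => l ∈ Set.range e)
  have hrel : ∀ j, ∑ a, A (e a) j • Z a = 0 := fun j => by
    have h := congrArg (fun m : M => N.toSubmodule.mkQ ((1 : C) ⊗ₜ[R] m)) (sum_col A0 π hker j)
    simp only [TensorProduct.tmul_sum, map_sum, TensorProduct.tmul_zero, map_zero, TensorProduct.tmul_smul,
      LinearMap.map_smul_of_tower] at h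
    rw [Finset.sum_congr rfl fun l _ => (algebraMap_smul C (A0 l j) (E l)).symm] at h
    rw [← σ.sum_comp, Fintype.sum_sum_type] at h
    refine Eq.trans ?_ h
    simp only [Z, smul_add, Finset.smul_sum, Finset.sum_add_distrib, smul_smul]
    congr 1
    rw [Finset.sum_comm]
    refine Finset.sum_congr rfl fun i _ => ?_
    rw [← Finset.sum_smul]
    congr 1
    show _ = A (c i).1 j
    rw [hrow (c i).1 j]
    exact Finset.sum_congr rfl fun a _ => mul_comm _ _
  have hZ : ∀ a, Z a = 0 := fun a' => by
    let D := A.submatrix e f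
    have hs : ∑ b, D.adjugate b a' • ∑ a, A (e a) (f b) • Z a = D.det • Z a' := by
      simp only [Finset.smul_sum, smul_smul]
      rw [Finset.sum_comm]
      simp only [← Finset.sum_smul]
      have hD : ∀ a, ∑ b, D.adjugate b a' * A (e a) (f b) = (D.det • (1 : Matrix (Fin r) (Fin r) C)) a a' := fun a => by
        rw [← Matrix.mul_adjugate]
        exact Finset.sum_congr rfl fun b _ => mul_comm _ _
      simp only [hD, Matrix.smul_apply, Matrix.one_apply, smul_eq_mul, mul_ite, mul_one, mul_zero, ite_smul, zero_smul]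
      simp
    rw [Finset.sum_eq_zero fun b _ => by rw [hrel, smul_zero]] at hs
    haveI := N.projective_quotient
    refine Module.Flat.isSMulRegular_of_nonZeroDivisors hnzd ?_
    show D.det • Z a' = D.det • (0 : (C ⊗[R] M) ⧸ N.toSubmodule)
    rw [smul_zero, ← hs]
  have hmem : ∀ v, v - lc C x (ℓ.liftBaseChange C v) ∈ N.toSubmodule := fun v => by
    refine mem_of_gens π hπ N.toSubmodule (LinearMap.id - lc C x ∘ₗ ℓ.liftBaseChange C) (fun l => ?_) v
    rw [LinearMap.sub_apply, LinearMap.id_apply, LinearMap.comp_apply, LinearMap.liftBaseChange_tmul, one_smul,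
      ← Submodule.Quotient.mk_eq_zero, ← Submodule.mkQ_apply, map_sub, hℓ, lc_apply, map_sum]
    obtain ⟨s, rfl⟩ := σ.surjective l
    have key : ∀ i (z : C), N.toSubmodule.mkQ (z ⊗ₜ[R] x i) = z • E (c i).1 := fun i z => by
      rw [← map_smul, TensorProduct.smul_tmul', smul_eq_mul, mul_one]
    simp only [key]
    rcases s with a | i
    · show E (e a) - ∑ i, (algebraMap R C ((Pi.single (e a) (1 : R) : Fin q → R) (c i).1) -
        ∑ b, u (c i).1 b * algebraMap R C ((Pi.single (e a) (1 : R) : Fin q → R) (e b))) • E (c i).1 = 0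
      refine Eq.trans ?_ (hZ a)
      simp only [Pi.single_eq_of_ne (hne _ a).symm, map_zero, zero_sub, neg_smul, Finset.sum_neg_distrib,
        sub_neg_eq_add]
      congr 1
      refine Finset.sum_congr rfl fun i _ => ?_
      congr 1
      rw [Finset.sum_eq_single a]
      · simp
      · intro b _ hb; rw [Pi.single_eq_of_ne (fun h => hb (he h)), map_zero, mul_zero]
      · simp
    · show E (c i).1 - ∑ i', (ℓ0 (Pi.single (c i).1 1)) i' • E (c i').1 = 0
      rw [← hℓ, hx, Finset.sum_eq_single i]
      · simp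
      · intro b _ hb; simp [Pi.single_eq_of_ne hb]
      · simp
  have hN : InChart x N := (inChart_iff _ _).2 fun v => ⟨_, hmem v⟩
  refine hN.ext (inChart_ofEll _ _ _) ?_
  rw [ell_ofEll]
  refine LinearMap.ext fun m => hN.equiv.injective ?_
  show N.toSubmodule.mkQ (lc C x (hN.ell m)) = N.toSubmodule.mkQ (lc C x (ℓ m))
  rw [← sub_eq_zero, ← map_sub, Submodule.mkQ_apply, Submodule.Quotient.mk_eq_zero]
  have h1 := hmem ((1 : C) ⊗ₜ[R] m)
  rw [LinearMap.liftBaseChange_tmul, one_smul] at h1
  have := sub_mem h1 (hN.sub_mem m)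
  rwa [sub_sub_sub_cancel_left] at this

include hπ hker in
/-- A point in a standard chart makes the other rows combinations of `r` rows. -/
theorem exists_rows [IsLocalRing C] {r k : ℕ} (hkr : r + k = q) (N : Pt R M k C) :
    ∃ (e : Fin r → Fin q) (P : Fin q → Fin r → C),
      ∀ l j, algebraMap R C (A0 l j) = ∑ a, P l a * algebraMap R C (A0 (e a) j) := by
  classical
  haveI := N.finite_quotient
  haveI := N.projective_quotient
  let Q := (C ⊗[R] M) ⧸ N.toSubmodule
  haveI : Module.Free C Q := Module.free_of_flat_of_isLocalRing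
  have hrk : Module.finrank C Q = k := by
    have h := N.rankAtStalk_eq (IsLocalRing.closedPoint C)
    rw [rankAtStalk_eq_finrank_of_free] at h
    exact h
  let b : Q ≃ₗ[C] (Fin k → C) := (Module.finBasisOfFinrankEq C Q hrk).equivFun
  let E : Fin q → Q := fun l => N.toSubmodule.mkQ ((1 : C) ⊗ₜ[R] π (Pi.single l 1))
  let vK : Fin q → (Fin k → IsLocalRing.ResidueField C) := fun l i => IsLocalRing.residue C (b (E l) i)
  have hspanE : Submodule.span C (Set.range E) = ⊤ := by
    refine eq_top_iff.2 fun z _ => ?_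
    obtain ⟨v, rfl⟩ := Submodule.mkQ_surjective _ z
    have h1 : v ∈ Submodule.comap N.toSubmodule.mkQ (Submodule.span C (Set.range E)) :=
      mem_of_gens π hπ (Submodule.comap N.toSubmodule.mkQ (Submodule.span C (Set.range E))) LinearMap.id
        (fun l => Submodule.mem_comap.2 (Submodule.subset_span ⟨l, rfl⟩)) v
    exact h1
  have hspanK : Submodule.span (IsLocalRing.ResidueField C) (Set.range vK) = ⊤ := by
    refine eq_top_iff.2 fun z _ => ?_
    choose z' hz' using fun i => IsLocalRing.residue_surjective (z i)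
    obtain ⟨a, ha⟩ := (Submodule.mem_span_range_iff_exists_fun C).1 (hspanE.ge (Submodule.mem_top (x := b.symm z')))
    refine (Submodule.mem_span_range_iff_exists_fun _).2 ⟨fun l => IsLocalRing.residue C (a l), funext fun i => ?_⟩
    have h := congrArg (fun y => IsLocalRing.residue C (b y i)) ha
    simp only [map_sum, map_smul, LinearEquiv.apply_symm_apply, Finset.sum_apply, Pi.smul_apply, smul_eq_mul,
      map_mul, hz'] at h
    simpa [Finset.sum_apply, vK] using h
  obtain ⟨g, hg1, hg2, hg3⟩ := Submodule.exists_fun_fin_finrank_span_eq (IsLocalRing.ResidueField C) (Set.range vK)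
  have hn : Module.finrank (IsLocalRing.ResidueField C) (Submodule.span (IsLocalRing.ResidueField C) (Set.range vK)) = k := by
    rw [hspanK, finrank_top, Module.finrank_fin_fun]
  choose c0 hc0 using fun i => hg1 (Fin.cast hn.symm i)
  have hli : LinearIndependent (IsLocalRing.ResidueField C) fun i => vK (c0 i) := by
    simp only [hc0]
    exact hg3.comp _ (Fin.cast_injective _)
  have hc0i : Function.Injective c0 := fun i i' h => hli.injective (by simp [h])
  let T : Matrix (Fin k) (Fin k) C := Matrix.of fun i j => b (E (c0 j)) i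
  have hT : IsUnit T := by
    rw [Matrix.isUnit_iff_isUnit_det, ← isUnit_map_iff (IsLocalRing.residue C), RingHom.map_det,
      ← Matrix.isUnit_iff_isUnit_det, ← Matrix.linearIndependent_cols_iff_isUnit]
    exact hli
  have hin : InChart (fun i => π (Pi.single (c0 i) 1)) N := by
    intro z
    obtain ⟨a, ha⟩ := (Matrix.mulVec_surjective_iff_isUnit.2 hT) (b z)
    refine ⟨a, b.injective ?_⟩
    rw [← ha, LinearMap.comp_apply, lc_apply, map_sum, map_sum]
    funext i
    rw [Finset.sum_apply]
    refine Finset.sum_congr rfl fun j _ => ?_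
    rw [show a j ⊗ₜ[R] π (Pi.single (c0 j) 1) = a j • ((1 : C) ⊗ₜ[R] π (Pi.single (c0 j) 1)) by
      rw [TensorProduct.smul_tmul', smul_eq_mul, mul_one], map_smul, map_smul]
    exact mul_comm _ _
  have hcard : Fintype.card {l : Fin q // l ∉ Set.range c0} = r := by
    rw [Fintype.card_subtype_compl, Fintype.card_fin,
      show Fintype.card {l : Fin q // l ∈ Set.range c0} = k from
        (Set.card_range_of_injective hc0i).trans (Fintype.card_fin k)]
    omega
  let ec : Fin r ≃ {l : Fin q // l ∉ Set.range c0} := (Fintype.equivFinOfCardEq hcard).symm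
  let σ : Fin k ⊕ Fin r ≃ Fin q :=
    (Equiv.sumCongr (Equiv.ofInjective c0 hc0i) ec).trans (Equiv.sumCompl fun l => l ∈ Set.range c0)
  refine ⟨fun a => (ec a).1, fun l a => Sum.elim (fun i => -hin.ell (π (Pi.single (ec a).1 1)) i)
    (fun a' => if a = a' then 1 else 0) (σ.symm l), fun l j => ?_⟩
  obtain ⟨s, rfl⟩ := σ.surjective l
  simp only [Equiv.symm_apply_apply]
  rcases s with i | a'
  · have h := congrArg (fun m => hin.ell m i) (sum_col A0 π hker j)
    simp only [map_sum, map_smul, Finset.sum_apply, Pi.smul_apply, map_zero, Pi.zero_apply] at h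
    simp only [Algebra.smul_def] at h
    rw [← σ.sum_comp, Fintype.sum_sum_type] at h
    have h1 : ∀ i', hin.ell (π (Pi.single (σ (Sum.inl i')) 1)) i = (Pi.single i' (1 : C) : Fin k → C) i :=
      fun i' => congrFun (hin.ell_apply_x i') i
    simp only [h1, Sum.elim_inl, neg_mul, Finset.sum_neg_distrib] at h ⊢
    rw [Finset.sum_eq_single i (fun b _ hb => by rw [Pi.single_eq_of_ne hb.symm, mul_zero]) (by simp),
      Pi.single_eq_same, mul_one] at h
    refine Eq.trans (eq_neg_of_add_eq_zero_left h) (congrArg Neg.neg (Finset.sum_congr rfl fun a _ => ?_))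
    exact mul_comm _ _
  · simp only [Sum.elim_inr, ite_mul, one_mul, zero_mul, Finset.sum_ite_eq', Finset.mem_univ, if_true]
    rfl

end Coker

/-- If rows and columns are combinations of `r` of them, one minor divides the others. -/
theorem dvd_minor {C : Type*} [CommRing C] {p q r : ℕ} (A : Matrix (Fin q) (Fin p) C)
    {e : Fin r → Fin q} {P : Fin q → Fin r → C} (hP : ∀ l j, A l j = ∑ a, P l a * A (e a) j)
    {f : Fin r → Fin p} {Q : Fin p → Fin r → C} (hQ : ∀ l j, A l j = ∑ b, Q j b * A l (f b))
    (e' : Fin r → Fin q) (f' : Fin r → Fin p) : (A.submatrix e f).det ∣ (A.submatrix e' f').det := by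
  have h : A.submatrix e' f' =
      Matrix.of (fun a a' => P (e' a) a') * A.submatrix e f * Matrix.of fun b b' => Q (f' b') b := by
    ext a b
    simp only [Matrix.mul_apply, Matrix.submatrix_apply, Matrix.of_apply, Finset.sum_mul]
    rw [hQ (e' a) (f' b)]
    refine Finset.sum_congr rfl fun c _ => ?_
    rw [hP (e' a) (f c), Finset.mul_sum]
    exact Finset.sum_congr rfl fun d _ => by ring
  rw [h, Matrix.det_mul, Matrix.det_mul]
  exact Dvd.dvd.mul_right (Dvd.dvd.mul_left dvd_rfl _) _

end Groth.Agent.DegLocus2
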