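import Groth.Agent.Lib.DegLocus2.Alg
import Groth.Agent.Lib.BlowGr2.Main
import Groth.Agent.Lib.Grass.Transport
import Groth.Agent.S14347
import Groth.Prelude.Def_CurvBase
import Groth.Prelude.Def_Fitting

/-!
The product of the two Quot schemes of a two-term complex is the blow-up of the degeneracy locus.
-/

set_option autoImplicit false
set_option linter.style.haveILetI false
set_option backward.isDefEq.respectTransparency false
set_option backward.isDefEq.respectTransparency.types false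
universe u

open TensorProduct Module CategoryTheory Limits AlgebraicGeometry TopologicalSpace Opposite Matrix
open Groth.Agent.GrassLib

noncomputable section

namespace Groth.Agent.DegLocus2

open Groth.Agent.BlowGr2 (psi psi_eq)

variable {R : Type u} [CommRing R]

/-- The ideal sheaf of an ideal on an affine scheme. -/
abbrev shf (I : Ideal R) : (Spec (CommRingCat.of R)).IdealSheafData :=
  (Spec.map (CommRingCat.ofHom (Ideal.Quotient.mk I))).ker

theorem ideal_top (I : Ideal R) : (shf I).ideal ⟨⊤, isAffineOpen_top _⟩ =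
    I.map (Scheme.ΓSpecIso (CommRingCat.of R)).inv.hom := by
  let q := CommRingCat.ofHom (Ideal.Quotient.mk I)
  let i := (Scheme.ΓSpecIso (CommRingCat.of R)).inv
  let i' := (Scheme.ΓSpecIso (CommRingCat.of (R ⧸ I))).inv
  have hi := ConcreteCategory.bijective_of_isIso i
  rw [Scheme.Hom.ker_apply]
  ext z
  obtain ⟨r, rfl⟩ := hi.2 z
  have h : (Spec.map q).appTop (i r) = i' (Ideal.Quotient.mk I r) :=
    (congrArg (fun φ => φ.hom r) (Scheme.ΓSpecIso_inv_naturality q)).symm
  refine (RingHom.mem_ker.trans (?_ : (Spec.map q).appTop (i r) = 0 ↔ r ∈ I)).trans ?_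
  · rw [← Ideal.Quotient.eq_zero_iff_mem]
    exact ⟨fun h0 => (ConcreteCategory.bijective_of_isIso i').1 ((h.symm.trans h0).trans (map_zero _).symm),
      fun h0 => h.trans ((congrArg _ h0).trans (map_zero _))⟩
  · refine ⟨fun h0 => Ideal.mem_map_of_mem _ h0, fun h0 => ?_⟩
    obtain ⟨r', hr', he⟩ := (Ideal.mem_map_iff_of_surjective _ hi.2).1 h0
    rwa [← hi.1 he]

theorem comap_shf_ideal {Y : Scheme.{u}} (g : Y ⟶ Spec (CommRingCat.of R)) (I : Ideal R) (W : Y.affineOpens) :
    ((shf I).comap g).ideal W = I.map (psi g W) := by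
  rw [EffCartier.comap_ideal (shf I) g ⟨⊤, isAffineOpen_top _⟩ W le_top, ideal_top, Ideal.map_map]
  exact congrArg (fun φ => Ideal.map φ I) (congrArg CommRingCat.Hom.hom (psi_eq g W)).symm

theorem shf_comap_quot (I J : Ideal R) :
    (shf I).comap (Spec.map (CommRingCat.ofHom (Ideal.Quotient.mk J))) = shf (I.map (Ideal.Quotient.mk J)) := by
  refine Scheme.IdealSheafData.ext_of_isAffine ?_
  rw [EffCartier.comap_ideal_top, ideal_top, ideal_top, Ideal.map_map, Ideal.map_map]
  exact congrArg (fun φ => Ideal.map φ I)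
    (congrArg CommRingCat.Hom.hom (Scheme.ΓSpecIso_inv_naturality (CommRingCat.ofHom (Ideal.Quotient.mk J)))).symm

theorem psi_res {Y : Scheme.{u}} (g : Y ⟶ Spec (CommRingCat.of R)) (W : Y.affineOpens) (s : Γ(Y, W.1)) (x : R) :
    psi g (Y.affineBasicOpen s) x = Y.presheaf.map (homOfLE (Y.basicOpen_le s)).op (psi g W x) := by
  have h : (Scheme.ΓSpecIso (CommRingCat.of R)).inv ≫ g.appLE ⊤ (Y.affineBasicOpen s).1 le_top =
      (Scheme.ΓSpecIso (CommRingCat.of R)).inv ≫ g.appLE ⊤ W.1 le_top ≫ Y.presheaf.map (homOfLE (Y.basicOpen_le s)).op :=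
    congrArg _ (g.appLE_map (V := W.1) (U := ⊤) (show W.1 ≤ g ⁻¹ᵁ ⊤ from le_top) (homOfLE (Y.basicOpen_le s)).op).symm
  rw [← psi_eq, ← Category.assoc, ← psi_eq] at h
  exact congrArg (fun φ : CommRingCat.of R ⟶ Γ(Y, (Y.affineBasicOpen s).1) => φ.hom x) h

variable {m δ : ℕ} (d : ℕ) (σ : (Fin m → R) →ₗ[R] (Fin (m + δ) → R))

/-- The cokernel. -/
abbrev Mp : Type u := (Fin (m + δ) → R) ⧸ LinearMap.range σ
/-- The cokernel of the dual. -/
abbrev Mm : Type u := Module.Dual R (Fin m → R) ⧸ LinearMap.range σ.dualMap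
/-- The matrix. -/
abbrev mat : Matrix (Fin (m + δ)) (Fin m) R := LinearMap.toMatrix' σ

/-- Coordinates on the dual. -/
def dualEquiv : (Fin m → R) ≃ₗ[R] Module.Dual R (Fin m → R) where
  toFun v := Fintype.linearCombination R v
  map_add' v w := by ext i; simp
  map_smul' c v := by ext i; simp
  invFun φ i := φ (Pi.single i 1)
  left_inv v := funext fun i => by simp
  right_inv φ := (Pi.basisFun R (Fin m)).ext fun i => by simp

/-- The presentation of the cokernel of the dual. -/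
def piM : (Fin m → R) →ₗ[R] Mm σ := (LinearMap.range σ.dualMap).mkQ ∘ₗ (dualEquiv (R := R) (m := m)).toLinearMap

theorem ker_piM : LinearMap.ker (piM σ) = LinearMap.range (mat σ).transpose.mulVecLin := by
  have key : ∀ w : Fin (m + δ) → R,
      σ.dualMap (Fintype.linearCombination R w) = dualEquiv ((mat σ).transpose.mulVec w) := fun w => by
    refine (Pi.basisFun R (Fin m)).ext fun i => ?_
    rw [Pi.basisFun_apply, LinearMap.dualMap_apply]
    show Fintype.linearCombination R w (σ (Pi.single i 1)) =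
      Fintype.linearCombination R ((mat σ).transpose.mulVec w) (Pi.single i 1)
    rw [Fintype.linearCombination_apply, Fintype.linearCombination_apply]
    simp [Matrix.mulVec, dotProduct, LinearMap.toMatrix'_apply, Pi.single_apply]
  ext v
  rw [LinearMap.mem_ker, piM, LinearMap.comp_apply, Submodule.mkQ_apply, Submodule.Quotient.mk_eq_zero]
  constructor
  · rintro ⟨ψ, hψ⟩
    have hψ' : ψ = Fintype.linearCombination R fun i => ψ (Pi.single i 1) :=
      (Pi.basisFun R (Fin (m + δ))).ext fun i => by simp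
    refine ⟨fun i => ψ (Pi.single i 1), (dualEquiv (R := R) (m := m)).injective ?_⟩
    rw [Matrix.mulVecLin_apply, ← key, ← hψ']
    exact hψ
  · rintro ⟨w, rfl⟩
    exact ⟨_, key w⟩

/-- The minors of the Fitting ideal. -/
abbrev mins (e : Fin (m + δ - d) → Fin (m + δ)) (f : Fin (m + δ - d) → Fin m) : R :=
  ((mat σ).submatrix e f).det

/-- The Fitting ideal. -/
abbrev Fd : Ideal R := Fitt.ideal R (Mp σ) d
/-- The ideal of the locus. -/
abbrev Jd : Ideal R := ⨆ j < d, Fitt.ideal R (Mp σ) j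

theorem fitt_eq (k : ℕ) : Fitt.ideal R (Mp σ) k = S14347.minors (mat σ) (m + δ - k) := by
  have h := S14347.fitting_coker (mat σ) k
  rw [show Matrix.mulVecLin (mat σ) = σ from Matrix.toLin'_toMatrix' σ] at h
  exact h

theorem Fd_eq : Fd d σ = Ideal.span (Set.range fun ef : (Fin (m + δ - d) → Fin (m + δ)) × (Fin (m + δ - d) → Fin m) =>
    mins d σ ef.1 ef.2) := by
  rw [Fd, fitt_eq]
  refine congrArg Ideal.span (Set.ext fun x => ⟨?_, ?_⟩)
  · rintro ⟨e, f, rfl⟩; exact ⟨(e, f), rfl⟩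
  · rintro ⟨⟨e, f⟩, rfl⟩; exact ⟨e, f, rfl⟩

/-- One minor is regular and divides the others. -/
def Good {C : Type u} [CommRing C] (ψ : R →+* C) : Prop :=
  ∃ e f, ψ (mins d σ e f) ∈ nonZeroDivisors C ∧ ∀ e' f', ψ (mins d σ e f) ∣ ψ (mins d σ e' f')

variable {d}

theorem subsingleton_of_gt {C : Type u} [CommRing C] (ψ : R →+* C) (h0 : (Jd d σ).map ψ = ⊥) (h : m + δ < d) :
    Subsingleton C := by
  have h1 : Fitt.ideal R (Mp σ) (m + δ) = ⊤ := by
    rw [fitt_eq, Ideal.eq_top_iff_one]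
    refine Ideal.subset_span ⟨fun i => absurd i.2 (by omega), fun i => absurd i.2 (by omega), ?_⟩
    haveI : IsEmpty (Fin (m + δ - (m + δ))) := ⟨fun i => absurd i.2 (by omega)⟩
    exact Matrix.det_isEmpty.symm
  have h2 : (⊤ : Ideal C) = ⊥ := by
    refine le_antisymm ?_ bot_le
    rw [← h0, ← Ideal.map_top ψ]
    exact Ideal.map_mono (h1 ▸ le_iSup₂_of_le (m + δ) h le_rfl)
  exact Ideal.eq_top_iff_one _ |>.1 h2.symm |> fun h' => subsingleton_of_zero_eq_one (Ideal.mem_bot.1 h').symm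

theorem existsUnique_points {C : Type u} [CommRing C] [Algebra R C] (hd : δ ≤ d)
    (h0 : (Jd d σ).map (algebraMap R C) = ⊥) (hg : Good d σ (algebraMap R C)) :
    (∃! _N : Pt R (Mp σ) d C, True) ∧ ∃! _N : Pt R (Mm σ) (d - δ) C, True := by
  rcases lt_or_ge (m + δ) d with hlt | hge
  · haveI := subsingleton_of_gt σ _ h0 hlt
    exact ⟨existsUnique_trivial d C, existsUnique_trivial (d - δ) C⟩
  obtain ⟨e, f, hreg, hdvd⟩ := hg
  let A := (mat σ).map (algebraMap R C)
  have hdet : ∀ {r : ℕ} (e : Fin r → Fin (m + δ)) (f : Fin r → Fin m),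
      (A.submatrix e f).det = algebraMap R C ((mat σ).submatrix e f).det := fun e f => by
    rw [RingHom.map_det]; rfl
  have hdetT : ∀ {r : ℕ} (e : Fin r → Fin (m + δ)) (f : Fin r → Fin m),
      (((mat σ).transpose.map (algebraMap R C)).submatrix f e).det = (A.submatrix e f).det := fun e f => by
    rw [← Matrix.det_transpose]; rfl
  have hz : ∀ (e' : Fin (m + δ - d + 1) → Fin (m + δ)) (f' : Fin (m + δ - d + 1) → Fin m),
      (A.submatrix e' f').det = 0 := by
    intro e' f'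
    rcases Nat.eq_zero_or_pos d with rfl | hpos
    · obtain ⟨a, b, hab, he⟩ := Fintype.exists_ne_map_eq_of_card_lt e' (by simp)
      exact Matrix.det_zero_of_row_eq hab (funext fun c => by simp [he])
    · rw [hdet, ← Ideal.mem_bot, ← h0]
      refine Ideal.mem_map_of_mem _ ((le_iSup₂ (f := fun j (_ : j < d) => Fitt.ideal R (Mp σ) j) (d - 1) (by omega)) ?_)
      rw [fitt_eq]
      have hr : m + δ - (d - 1) = m + δ - d + 1 := by omega
      refine Ideal.subset_span ⟨fun i => e' (Fin.cast hr i), fun i => f' (Fin.cast hr i), ?_⟩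
      exact (Matrix.det_submatrix_equiv_self (finCongr hr) ((mat σ).submatrix e' f')).symm
  refine ⟨existsUnique_pt (mat σ) (LinearMap.range σ).mkQ (Submodule.mkQ_surjective _)
      ((Submodule.ker_mkQ _).trans (congrArg LinearMap.range (Matrix.toLin'_toMatrix' σ).symm))
      (by omega) e f (by rw [hdet]; exact hreg) (fun e' f' => by rw [hdet, hdet]; exact hdvd e' f') hz,
    existsUnique_pt (mat σ).transpose (piM σ)
      ((Submodule.mkQ_surjective _).comp dualEquiv.surjective) (ker_piM σ)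
      (by omega) f e ?_ (fun f' e' => ?_) (fun f' e' => ?_)⟩
  · rw [hdetT, hdet]; exact hreg
  · rw [hdetT, hdetT, hdet, hdet]; exact hdvd e' f'
  · rw [hdetT]; exact hz e' f'

variable {Bp Bm : Over (Spec (CommRingCat.of R))}

theorem existsUnique_mor {M : Type u} [AddCommGroup M] [Module R M] {k : ℕ} {X : Over (Spec (CommRingCat.of R))}
    (hX : GrassLib.Rep R M k X) {C : Type u} [CommRing C] [Algebra R C] (h : ∃! _N : Pt R M k C, True) :
    ∃! a : Spec (CommRingCat.of C) ⟶ X.left, a ≫ X.hom = str R C := by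
  obtain ⟨N, -, hN⟩ := h
  refine ⟨hX.mor N, hX.mor_str N, fun a ha => ?_⟩
  rw [← hX.mor_pt a ha, hN (hX.pt a ha) trivial]

variable (hd : δ ≤ d) (hp : GrassLib.Rep R (Mp σ) d Bp) (hm : GrassLib.Rep R (Mm σ) (d - δ) Bm)

include hd hp hm in
theorem existsUnique_affine {C : CommRingCat.{u}} (g0 : Spec C ⟶ Spec (CommRingCat.of R))
    (h0 : (Jd d σ).map (Spec.preimage g0).hom = ⊥) (hg : Good d σ (Spec.preimage g0).hom) :
    ∃! h : Spec C ⟶ pullback Bp.hom Bm.hom, h ≫ pullback.fst Bp.hom Bm.hom ≫ Bp.hom = g0 := by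
  letI : Algebra R C := (Spec.preimage g0).hom.toAlgebra
  have hstr : str R C = g0 := Spec.map_preimage g0
  obtain ⟨h1, h2⟩ := existsUnique_points (C := C) σ hd h0 hg
  obtain ⟨a, ha, hau⟩ := existsUnique_mor hp h1
  obtain ⟨b, hb, hbu⟩ := existsUnique_mor hm h2
  refine ⟨pullback.lift a b (ha.trans hb.symm), ?_, fun h hh => ?_⟩
  · exact (pullback.lift_fst_assoc _ _ _ _).trans (ha.trans hstr)
  · refine pullback.hom_ext ?_ ?_
    · rw [pullback.lift_fst]
      exact hau _ ((Category.assoc _ _ _).trans (hh.trans hstr.symm))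
    · rw [pullback.lift_snd]
      refine hbu _ ?_
      show (h ≫ pullback.snd _ _) ≫ Bm.hom = _
      rw [Category.assoc, ← pullback.condition]
      exact hh.trans hstr.symm

variable {Y : Scheme.{u}} (g : Y ⟶ Spec (CommRingCat.of R))

theorem exists_good (hg : BlowUp.IsEffCartierIdeal ((shf (Fd d σ)).comap g)) (y : Y) :
    ∃ W : Y.affineOpens, y ∈ W.1 ∧ Good d σ (psi g W) := by
  obtain ⟨W, hyW, t, ht⟩ := EffCartier.isEffCartierIdeal_iff.mp hg y
  let F := fun ef : (Fin (m + δ - d) → Fin (m + δ)) × (Fin (m + δ - d) → Fin m) => psi g W (mins d σ ef.1 ef.2)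
  have hI : Ideal.span (Set.range F) = Ideal.span {t} := by
    rw [← ht.ideal_eq, comap_shf_ideal, Fd_eq, Ideal.map_span, ← Set.range_comp]
    rfl
  have hdiv : ∀ j, t ∣ F j := fun j => Ideal.mem_span_singleton.1 (hI ▸ Ideal.subset_span ⟨j, rfl⟩)
  choose u hu using hdiv
  obtain ⟨a, ha⟩ := Ideal.mem_span_range_iff_exists_fun.1 (hI.symm ▸ Ideal.mem_span_singleton_self t :
    t ∈ Ideal.span (Set.range F))
  have h1 : ∑ j, a j * u j = 1 := by
    refine (mul_cancel_left_mem_nonZeroDivisors ht.mem).1 ?_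
    rw [mul_one, Finset.mul_sum]
    refine Eq.trans (Finset.sum_congr rfl fun j _ => ?_) ha
    rw [hu j]; ring
  obtain ⟨k, hk⟩ : ∃ k, y ∈ Y.basicOpen (u k) := by
    by_contra h
    push Not at h
    have h2 : ∀ j, Y.presheaf.germ W.1 y hyW (u j) ∈ IsLocalRing.maximalIdeal _ := fun j => by
      rw [IsLocalRing.mem_maximalIdeal]
      intro hu'
      exact h j ((Y.mem_basicOpen (u j) y hyW).2 hu')
    have h3 := congrArg (Y.presheaf.germ W.1 y hyW) h1
    rw [map_sum, map_one] at h3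
    refine (IsLocalRing.maximalIdeal.isMaximal (Y.presheaf.stalk y)).ne_top ((Ideal.eq_top_iff_one _).2 ?_)
    rw [← h3]
    exact sum_mem fun j _ => by rw [map_mul]; exact Ideal.mul_mem_left _ _ (h2 j)
  let r := (Y.presheaf.map (homOfLE (Y.basicOpen_le (u k))).op).hom
  have hru : IsUnit (r (u k)) := RingedSpace.isUnit_res_basicOpen Y.toLocallyRingedSpace.toRingedSpace (u k)
  have hres : ∀ ef, psi g (Y.affineBasicOpen (u k)) (mins d σ ef.1 ef.2) = r t * r (u ef) := fun ef => by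
    rw [psi_res, ← map_mul, ← hu ef]
  refine ⟨Y.affineBasicOpen (u k), hk, k.1, k.2, ?_, fun e' f' => ?_⟩
  · rw [hres k]
    exact mul_mem (ht.basicOpen (u k)).mem hru.mem_nonZeroDivisors
  · rw [hres k, hres (e', f')]
    exact (hru.mul_right_dvd).2 (dvd_mul_right _ _)

include hd hp hm in
theorem hom_unique (hg : BlowUp.IsEffCartierIdeal ((shf (Fd d σ)).comap g))
    (h0 : ∀ W, (Jd d σ).map (psi g W) = ⊥) {h h' : Y ⟶ pullback Bp.hom Bm.hom}
    (e : h ≫ pullback.fst Bp.hom Bm.hom ≫ Bp.hom = g) (e' : h' ≫ pullback.fst Bp.hom Bm.hom ≫ Bp.hom = g) :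
    h = h' := by
  choose W hy hW using exists_good σ g hg
  refine Scheme.Cover.hom_ext (Scheme.openCoverOfIsOpenCover Y (fun y => (W y).1)
    (top_le_iff.mp fun y _ => Opens.mem_iSup.2 ⟨y, hy y⟩)) _ _ fun y => ?_
  change (W y).1.ι ≫ h = (W y).1.ι ≫ h'
  rw [← cancel_epi (W y).2.isoSpec.inv, ← Category.assoc, ← Category.assoc, IsAffineOpen.isoSpec_inv_ι]
  exact (existsUnique_affine σ hd hp hm ((W y).2.fromSpec ≫ g) (h0 (W y)) (hW y)).unique
    (by rw [Category.assoc, e]) (by rw [Category.assoc, e'])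

theorem jd_zero {T : Scheme.{u}} (g' : T ⟶ Spec (CommRingCat.of (R ⧸ Jd d σ))) (W : T.affineOpens) :
    (Jd d σ).map (psi (g' ≫ Spec.map (CommRingCat.ofHom (Ideal.Quotient.mk (Jd d σ)))) W) = ⊥ := by
  have h : Spec.preimage (W.2.fromSpec ≫ g' ≫ Spec.map (CommRingCat.ofHom (Ideal.Quotient.mk (Jd d σ)))) =
      CommRingCat.ofHom (Ideal.Quotient.mk (Jd d σ)) ≫ Spec.preimage (W.2.fromSpec ≫ g') := by
    refine Spec.map_injective ?_
    rw [Spec.map_preimage, Spec.map_comp, Spec.map_preimage, Category.assoc]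
  rw [BlowGr2.psi, h, CommRingCat.hom_comp, ← Ideal.map_map, CommRingCat.hom_ofHom, Ideal.map_quotient_self,
    Ideal.map_bot]

include hd hp hm in
theorem existsUnique_hom {T : Scheme.{u}} (g' : T ⟶ Spec (CommRingCat.of (R ⧸ Jd d σ)))
    (hg : BlowUp.IsEffCartierIdeal
      ((shf (Fd d σ)).comap (g' ≫ Spec.map (CommRingCat.ofHom (Ideal.Quotient.mk (Jd d σ)))))) :
    ∃! h : T ⟶ pullback Bp.hom Bm.hom,
      h ≫ pullback.fst Bp.hom Bm.hom ≫ Bp.hom = g' ≫ Spec.map (CommRingCat.ofHom (Ideal.Quotient.mk (Jd d σ))) := by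
  let g := g' ≫ Spec.map (CommRingCat.ofHom (Ideal.Quotient.mk (Jd d σ)))
  have h0 : ∀ W, (Jd d σ).map (psi g W) = ⊥ := jd_zero σ g'
  choose W hy hW using exists_good σ g hg
  choose l hl _ using fun y => existsUnique_affine σ hd hp hm ((W y).2.fromSpec ≫ g) (h0 (W y)) (hW y)
  let 𝒰 := Scheme.openCoverOfIsOpenCover T (fun y => (W y).1)
    (top_le_iff.mp fun y _ => Opens.mem_iSup.2 ⟨y, hy y⟩)
  let q : ∀ y, ((W y).1 : Scheme.{u}) ⟶ pullback Bp.hom Bm.hom := fun y => (W y).2.isoSpec.hom ≫ l y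
  have hq : ∀ y, q y ≫ pullback.fst Bp.hom Bm.hom ≫ Bp.hom = (W y).1.ι ≫ g := fun y => by
    simp only [q, Category.assoc, hl y, IsAffineOpen.isoSpec_hom_fromSpec_assoc]
  have hcompat : ∀ a b : T, pullback.fst (W a).1.ι (W b).1.ι ≫ q a = pullback.snd (W a).1.ι (W b).1.ι ≫ q b := by
    intro a b
    refine hom_unique σ hd hp hm (pullback.fst (W a).1.ι (W b).1.ι ≫ (W a).1.ι ≫ g) ?_ ?_ ?_ ?_
    · rw [← Category.assoc, Scheme.IdealSheafData.comap_comp]
      exact BlowUpExist.isEffCartierIdeal_comap_of_isOpenImmersion hg _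
    · intro V
      have := jd_zero σ ((pullback.fst (W a).1.ι (W b).1.ι ≫ (W a).1.ι) ≫ g') V
      simpa only [g, Category.assoc] using this
    · rw [Category.assoc, hq]
    · rw [Category.assoc, hq, pullback.condition_assoc]
  refine ⟨𝒰.glueMorphisms q hcompat, ?_, fun h' e' => hom_unique σ hd hp hm g hg h0 e' ?_⟩ <;>
  · refine 𝒰.hom_ext _ _ fun y => ?_
    rw [Scheme.Cover.ι_glueMorphisms_assoc]
    exact hq y

include hd hp hm in
theorem exists_dvd_localRing {L : Type u} [CommRing L] [IsLocalRing L] [Algebra R L]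
    (a : Spec (CommRingCat.of L) ⟶ pullback Bp.hom Bm.hom)
    (ha : a ≫ pullback.fst Bp.hom Bm.hom ≫ Bp.hom = str R L) :
    ∃ e f, ∀ e' f', algebraMap R L (mins d σ e f) ∣ algebraMap R L (mins d σ e' f') := by
  rcases Nat.eq_zero_or_pos (m + δ - d) with h | h
  · haveI : IsEmpty (Fin (m + δ - d)) := ⟨fun i => absurd i.2 (by omega)⟩
    exact ⟨isEmptyElim, isEmptyElim, fun e' f' => by simp [mins, Matrix.det_isEmpty]⟩
  have e1 : (a ≫ pullback.fst Bp.hom Bm.hom) ≫ Bp.hom = str R L := (Category.assoc _ _ _).trans ha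
  have e2 : (a ≫ pullback.snd Bp.hom Bm.hom) ≫ Bm.hom = str R L := by
    rw [Category.assoc, ← pullback.condition]; exact ha
  obtain ⟨e, P, hP⟩ := exists_rows (mat σ) (LinearMap.range σ).mkQ (Submodule.mkQ_surjective _)
    ((Submodule.ker_mkQ _).trans (congrArg LinearMap.range (Matrix.toLin'_toMatrix' σ).symm))
    (C := L) (r := m + δ - d) (k := d) (by omega) (hp.pt _ e1)
  obtain ⟨f, Q, hQ⟩ := exists_rows (mat σ).transpose (piM σ)
    ((Submodule.mkQ_surjective _).comp dualEquiv.surjective) (ker_piM σ)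
    (C := L) (r := m + δ - d) (k := d - δ) (by omega) (hm.pt _ e2)
  refine ⟨e, f, fun e' f' => ?_⟩
  rw [RingHom.map_det, RingHom.map_det]
  exact dvd_minor ((mat σ).map (algebraMap R L)) (P := P) (fun l j => hP l j) (Q := Q)
    (fun l j => hQ j l) e' f'

include hd hp hm in
theorem isLocPrincipal :
    Curv2.IsLocPrincipal ((shf (Fd d σ)).comap (pullback.fst Bp.hom Bm.hom ≫ Bp.hom)) := by
  intro x _
  let X := pullback Bp.hom Bm.hom
  let g : X ⟶ Spec (CommRingCat.of R) := pullback.fst Bp.hom Bm.hom ≫ Bp.hom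
  obtain ⟨_, ⟨U, hU, rfl⟩, hxU, -⟩ := X.isBasis_affineOpens.exists_subset_of_mem_open (Set.mem_univ x) isOpen_univ
  let W : X.affineOpens := ⟨U, hU⟩
  let p := (hU.primeIdealOf ⟨x, hxU⟩).asIdeal
  letI : Algebra R Γ(X, U) := (psi g W).toAlgebra
  let L := Localization.AtPrime p
  let toL : CommRingCat.of Γ(X, U) ⟶ CommRingCat.of L := CommRingCat.ofHom (algebraMap Γ(X, U) L)
  have ha : (Spec.map toL ≫ hU.fromSpec) ≫ g = str R L := by
    have h1 : hU.fromSpec ≫ g = str R Γ(X, U) := (Spec.map_preimage _).symm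
    rw [Category.assoc, h1, str, str, ← Spec.map_comp, IsScalarTower.algebraMap_eq R Γ(X, U) L]
    rfl
  obtain ⟨e, f, hef⟩ := exists_dvd_localRing (L := L) σ hd hp hm (Spec.map toL ≫ hU.fromSpec) ha
  have hs : ∀ ef : (Fin (m + δ - d) → Fin (m + δ)) × (Fin (m + δ - d) → Fin m), ∃ s ∈ p.primeCompl,
      psi g W (mins d σ e f) ∣ s * psi g W (mins d σ ef.1 ef.2) := fun ef => by
    obtain ⟨z, hz⟩ := hef ef.1 ef.2
    obtain ⟨⟨z0, s⟩, hzs⟩ := IsLocalization.surj p.primeCompl z
    obtain ⟨c, hc⟩ := (IsLocalization.eq_iff_exists p.primeCompl L).1 (show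
      algebraMap Γ(X, U) L (psi g W (mins d σ e f) * z0) =
        algebraMap Γ(X, U) L (psi g W (mins d σ ef.1 ef.2) * s) by
      rw [map_mul, map_mul, ← hzs]
      rw [IsScalarTower.algebraMap_apply R Γ(X, U) L, IsScalarTower.algebraMap_apply R Γ(X, U) L] at hz
      rw [show psi g W (mins d σ ef.1 ef.2) = algebraMap R Γ(X, U) (mins d σ ef.1 ef.2) from rfl, hz,
        show psi g W (mins d σ e f) = algebraMap R Γ(X, U) (mins d σ e f) from rfl]
      ring)
    exact ⟨c.1 * s.1, mul_mem c.2 s.2, ⟨c.1 * z0, by linear_combination -hc⟩⟩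
  choose s hsp hsd using hs
  let S := ∏ ef, s ef
  have hSp : S ∈ p.primeCompl := prod_mem fun ef _ => hsp ef
  have hxS : x ∈ X.basicOpen S := by
    rw [X.mem_basicOpen S x hxU]
    let := TopCat.Presheaf.algebra_section_stalk X.presheaf (⟨x, hxU⟩ : U)
    haveI := hU.isLocalization_stalk ⟨x, hxU⟩
    exact IsLocalization.map_units (X.presheaf.stalk x) (⟨S, hSp⟩ : p.primeCompl)
  let r := (X.presheaf.map (homOfLE (X.basicOpen_le S)).op).hom
  have hSu : IsUnit (r S) := RingedSpace.isUnit_res_basicOpen X.toLocallyRingedSpace.toRingedSpace S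
  refine ⟨X.affineBasicOpen (U := W) S, hxS, psi g (X.affineBasicOpen (U := W) S) (mins d σ e f), ?_⟩
  rw [comap_shf_ideal, Fd_eq, Ideal.map_span, ← Set.range_comp]
  refine le_antisymm (Ideal.span_le.2 ?_) ((Ideal.span_singleton_le_iff_mem _).2 (Ideal.subset_span ⟨(e, f), rfl⟩))
  rintro _ ⟨ef, rfl⟩
  refine Ideal.mem_span_singleton.2 ?_
  show psi g (X.affineBasicOpen (U := W) S) _ ∣ psi g (X.affineBasicOpen (U := W) S) (mins d σ ef.1 ef.2)
  rw [psi_res, psi_res]
  have hu : IsUnit (r (s ef)) := isUnit_of_dvd_unit (map_dvd r (Finset.dvd_prod_of_mem s (Finset.mem_univ ef))) hSu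
  have h := map_dvd r (hsd ef)
  rw [map_mul, hu.dvd_mul_left] at h
  exact h

include hd hp hm in
theorem isBlowUp (c : pullback Bp.hom Bm.hom ⟶ Spec (CommRingCat.of (R ⧸ Jd d σ)))
    (hc : c ≫ Spec.map (CommRingCat.ofHom (Ideal.Quotient.mk (Jd d σ))) = pullback.fst Bp.hom Bm.hom ≫ Bp.hom)
    (he : BlowUp.IsEffCartierIdeal ((shf (Fd d σ)).comap (pullback.fst Bp.hom Bm.hom ≫ Bp.hom))) :
    BlowUp.IsBlowUp c (shf ((Fd d σ).map (Ideal.Quotient.mk (Jd d σ)))) := by
  rw [← shf_comap_quot]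
  refine ⟨?_, fun T g' hg' => ?_⟩
  · rwa [← Scheme.IdealSheafData.comap_comp, hc]
  rw [← Scheme.IdealSheafData.comap_comp] at hg'
  obtain ⟨h, hh, hu⟩ := existsUnique_hom σ hd hp hm g' hg'
  haveI : IsClosedImmersion (Spec.map (CommRingCat.ofHom (Ideal.Quotient.mk (Jd d σ)))) :=
    IsClosedImmersion.spec_of_surjective _ Ideal.Quotient.mk_surjective
  refine ⟨h, ?_, fun h' e' => hu h' ?_⟩
  · show h ≫ c = g'
    rw [← cancel_mono (Spec.map (CommRingCat.ofHom (Ideal.Quotient.mk (Jd d σ)))), Category.assoc, hc]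
    exact hh
  · show h' ≫ _ = _
    rw [← hc, ← Category.assoc, e']

end Groth.Agent.DegLocus2
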